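import Mathlib

/-!
# Sums of spaces of differentials with one pole, on the projective line

`V = D·k[X]_{<b} + ∑ D_i·k[X]_{<a_i}` is the image of `k[X]_{≤ N}` under
`T w = R w' - G w`, where `R = ∏ (X - r_j)`, `E = ∏ (X - r_j)^(a_j)`, `R E' = G E`
(so that `T w = D (w / E)'`); all dimensions can be read off from this.
-/

set_option autoImplicit false
open Polynomial

namespace K924.Wronsk

variable {k : Type*} [Field k] [CharZero k] {m : ℕ} (r : Fin m → k) (a : Fin m → ℕ)

/-- The product of the `X - r_j`. -/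
noncomputable def RR : k[X] := ∏ j, (X - C (r j))

/-- The product of the `(X - r_j)^(a_j)`. -/
noncomputable def EE : k[X] := ∏ j, (X - C (r j)) ^ (a j)

/-- `R E' / E`. -/
noncomputable def GG : k[X] := ∑ j, C (a j : k) * ∏ i ∈ Finset.univ.erase j, (X - C (r i))

/-- The space in the statements. -/
noncomputable def VV (b : ℕ) : Submodule k k[X] :=
  (Polynomial.degreeLT k b).map (LinearMap.mulLeft k (∏ j, (X - C (r j)) ^ (a j + 1))) ⊔
      ⨆ i, (Polynomial.degreeLT k (a i)).map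
        (LinearMap.mulLeft k (∏ j ∈ Finset.univ.erase i, (X - C (r j)) ^ (a j + 1)))

/-- `T w = R w' - G w`. -/
noncomputable def TT : k[X] →ₗ[k] k[X] :=
  (LinearMap.mulLeft k (RR r)).comp derivative - LinearMap.mulLeft k (GG r a)

omit [CharZero k] in
theorem TT_apply (w : k[X]) : TT r a w = RR r * derivative w - GG r a * w := rfl

omit [CharZero k] in
theorem RR_ne_zero : RR r ≠ 0 :=
  Finset.prod_ne_zero_iff.mpr fun j _ => X_sub_C_ne_zero (r j)

omit [CharZero k] in
theorem EE_ne_zero : EE r a ≠ 0 :=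
  Finset.prod_ne_zero_iff.mpr fun j _ => pow_ne_zero _ (X_sub_C_ne_zero (r j))

omit [CharZero k] in
theorem RR_monic : (RR r).Monic := monic_prod_of_monic _ _ fun j _ => monic_X_sub_C (r j)

omit [CharZero k] in
theorem EE_monic : (EE r a).Monic :=
  monic_prod_of_monic _ _ fun j _ => (monic_X_sub_C (r j)).pow _

omit [CharZero k] in
theorem RR_natDegree : (RR r).natDegree = m := by
  rw [RR, natDegree_prod_of_monic _ _ fun j _ => monic_X_sub_C (r j)]
  simp

omit [CharZero k] in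
theorem EE_natDegree : (EE r a).natDegree = ∑ j, a j := by
  rw [EE, natDegree_prod_of_monic _ _ fun j _ => (monic_X_sub_C (r j)).pow _]
  simp

omit [CharZero k] in
theorem GG_mul_EE : GG r a * EE r a = RR r * derivative (EE r a) := by
  rw [EE, derivative_prod_finset, Finset.mul_sum, GG, Finset.sum_mul]
  refine Finset.sum_congr rfl fun j hj => ?_
  have e1 : ∏ j, (X - C (r j)) = (X - C (r j)) * ∏ l ∈ Finset.univ.erase j, (X - C (r l)) :=
    (Finset.mul_prod_erase _ (fun j => X - C (r j)) hj).symm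
  have e2 : ∏ j, (X - C (r j)) ^ (a j) =
      (X - C (r j)) ^ (a j) * ∏ l ∈ Finset.univ.erase j, (X - C (r l)) ^ (a l) :=
    (Finset.mul_prod_erase _ (fun j => (X - C (r j)) ^ (a j)) hj).symm
  rw [derivative_X_sub_C_pow, RR, e1, e2]
  rcases Nat.eq_zero_or_pos (a j) with h | h
  · simp [h]
  · obtain ⟨s, hs⟩ : ∃ s, a j = s + 1 := ⟨a j - 1, by omega⟩
    rw [hs, pow_succ, Nat.add_sub_cancel]
    ring

omit [CharZero k] in
theorem TT_EE : TT r a (EE r a) = 0 := by
  rw [TT_apply, GG_mul_EE, sub_self]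

omit [CharZero k] in
theorem TT_EE_mul (f : k[X]) : TT r a (EE r a * f) = RR r * EE r a * derivative f := by
  have h := TT_EE r a
  rw [TT_apply] at h
  rw [TT_apply, derivative_mul]
  linear_combination f * h

omit [CharZero k] in
theorem TT_mul (f g : k[X]) : TT r a (f * g) = f * TT r a g + RR r * derivative f * g := by
  rw [TT_apply, TT_apply, derivative_mul]
  ring

omit [CharZero k] in
theorem RR_mul_EE : RR r * EE r a = ∏ j, (X - C (r j)) ^ (a j + 1) := by
  rw [RR, EE, ← Finset.prod_mul_distrib]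
  exact Finset.prod_congr rfl fun j _ => (pow_succ' _ _).symm

omit [CharZero k] in
/-- Value at an unmarked point. -/
theorem RR_eval_ne_zero {q : k} (hq : ∀ j, q ≠ r j) : (RR r).eval q ≠ 0 := by
  rw [RR, eval_prod]
  refine Finset.prod_ne_zero_iff.mpr fun j _ => ?_
  rw [eval_sub, eval_X, eval_C]
  exact sub_ne_zero.mpr (hq j)

omit [CharZero k] in
theorem EE_eval_ne_zero {q : k} (hq : ∀ j, q ≠ r j) : (EE r a).eval q ≠ 0 := by
  rw [EE, eval_prod]
  refine Finset.prod_ne_zero_iff.mpr fun j _ => ?_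
  rw [eval_pow, eval_sub, eval_X, eval_C]
  exact pow_ne_zero _ (sub_ne_zero.mpr (hq j))

omit [CharZero k] in
/-- Value of `R / (X - r_i)` at `r_i`. -/
theorem Ri_eval_ne_zero (hr : Function.Injective r) (i : Fin m) :
    (∏ j ∈ Finset.univ.erase i, (X - C (r j))).eval (r i) ≠ 0 := by
  rw [eval_prod]
  refine Finset.prod_ne_zero_iff.mpr fun j hj => ?_
  rw [eval_sub, eval_X, eval_C]
  exact sub_ne_zero.mpr (fun h => Finset.ne_of_mem_erase hj (hr h).symm)

omit [CharZero k] in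
theorem Ei_eval_ne_zero (hr : Function.Injective r) (i : Fin m) :
    (∏ j ∈ Finset.univ.erase i, (X - C (r j)) ^ a j).eval (r i) ≠ 0 := by
  rw [eval_prod]
  refine Finset.prod_ne_zero_iff.mpr fun j hj => ?_
  rw [eval_pow, eval_sub, eval_X, eval_C]
  exact pow_ne_zero _ (sub_ne_zero.mpr (fun h => Finset.ne_of_mem_erase hj (hr h).symm))

omit [CharZero k] in
theorem dvd_iff_order {q : k} {w : k[X]} (hw : w ≠ 0) (n : ℕ) :
    (X - C q) ^ n ∣ w ↔ n ≤ rootMultiplicity q w := by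
  rw [le_rootMultiplicity_iff hw]

omit [CharZero k] in
/-- Local computation at an arbitrary point: write `w = (X - q)^s u`. -/
theorem TT_pow_mul (q : k) (s : ℕ) (u : k[X]) :
    TT r a ((X - C q) ^ s * u) =
      (X - C q) ^ s * (RR r * derivative u - GG r a * u) +
        RR r * (C (s : k) * (X - C q) ^ (s - 1)) * u := by
  rw [TT_mul, TT_apply, derivative_X_sub_C_pow]

/-- At an unmarked point, a polynomial vanishing at `q` loses exactly one order. -/
theorem order_unmarked {q : k} (hq : ∀ j, q ≠ r j) {w : k[X]} {n : ℕ}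
    (hwq : w.eval q = 0) (h : (X - C q) ^ n ∣ TT r a w) : (X - C q) ^ (n + 1) ∣ w := by
  by_cases hw : w = 0
  · rw [hw]; exact dvd_zero _
  obtain ⟨u, hu, hu'⟩ := exists_eq_pow_rootMultiplicity_mul_and_not_dvd w hw q
  have hs : 1 ≤ rootMultiplicity q w := (rootMultiplicity_pos hw).mpr hwq
  obtain ⟨s, hs'⟩ : ∃ s, rootMultiplicity q w = s + 1 := ⟨rootMultiplicity q w - 1, by omega⟩
  rw [dvd_iff_order hw, hs']
  by_contra hlt
  push Not at hlt
  have hlt' : s + 1 ≤ n := by omega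
  rw [hs'] at hu
  have h1 : (X - C q) ^ (s + 1) ∣ TT r a w := (pow_dvd_pow _ hlt').trans h
  rw [hu, TT_pow_mul, Nat.add_sub_cancel] at h1
  have h2 := (dvd_add_right (Dvd.intro _ rfl)).mp h1
  have h3 : (X - C q) ^ s * (X - C q) ∣ (X - C q) ^ s * (RR r * C ((s + 1 : ℕ) : k) * u) := by
    rw [← pow_succ]
    convert h2 using 1
    ring
  have h4 := (mul_dvd_mul_iff_left (pow_ne_zero _ (X_sub_C_ne_zero q))).mp h3
  rw [dvd_iff_isRoot, IsRoot.def, eval_mul, eval_mul, eval_C] at h4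
  rw [dvd_iff_isRoot, IsRoot.def] at hu'
  rcases mul_eq_zero.mp h4 with h5 | h5
  · rcases mul_eq_zero.mp h5 with h6 | h6
    · exact RR_eval_ne_zero r hq h6
    · exact (Nat.cast_ne_zero.mpr (Nat.succ_ne_zero s)) h6
  · exact hu' h5

theorem exists_sub_unmarked {q : k} (hq : ∀ j, q ≠ r j) {w : k[X]} {n : ℕ}
    (h : (X - C q) ^ n ∣ TT r a w) :
    ∃ c : k, (X - C q) ^ (n + 1) ∣ w - C c * EE r a := by
  refine ⟨w.eval q / (EE r a).eval q, order_unmarked r a hq ?_ ?_⟩
  · rw [eval_sub, eval_mul, eval_C, div_mul_cancel₀ _ (EE_eval_ne_zero r a hq), sub_self]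
  · rw [map_sub, ← smul_eq_C_mul, map_smul, TT_EE, smul_zero, sub_zero]
    exact h

omit [CharZero k] in
theorem dvd_TT_unmarked {q : k} {w : k[X]} {n : ℕ} (h : (X - C q) ^ (n + 1) ∣ w) :
    (X - C q) ^ n ∣ TT r a w := by
  obtain ⟨u, rfl⟩ := h
  rw [TT_mul, derivative_X_sub_C_pow, Nat.add_sub_cancel]
  refine dvd_add ?_ ?_
  · rw [pow_succ, mul_assoc]; exact Dvd.intro _ rfl
  · exact ⟨RR r * C ((n + 1 : ℕ) : k) * u, by ring⟩

/-- The kernel of `T`. -/
theorem mem_ker_TT {w : k[X]} (h : TT r a w = 0) : ∃ c : k, w = C c * EE r a := by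
  obtain ⟨q, hq⟩ : ∃ q : k, ∀ j, q ≠ r j := by
    obtain ⟨q, hq⟩ := Set.Infinite.exists_notMem_finite (Set.infinite_univ (α := k))
      (Set.finite_range r)
    exact ⟨q, fun j hj => hq.2 ⟨j, hj.symm⟩⟩
  refine ⟨w.eval q / (EE r a).eval q, ?_⟩
  by_contra hne
  rw [← sub_eq_zero] at hne
  have hall : ∀ n, (X - C q) ^ (n + 1) ∣ w - C (w.eval q / (EE r a).eval q) * EE r a := by
    intro n
    refine order_unmarked r a hq ?_ ?_
    · rw [eval_sub, eval_mul, eval_C, div_mul_cancel₀ _ (EE_eval_ne_zero r a hq), sub_self]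
    · rw [map_sub, ← smul_eq_C_mul, map_smul, TT_EE, smul_zero, sub_zero, h]
      exact dvd_zero _
  have h1 := (dvd_iff_order hne _).mp (hall (rootMultiplicity q
    (w - C (w.eval q / (EE r a).eval q) * EE r a)))
  omega

/-- At a marked point. -/
theorem order_marked (hr : Function.Injective r) (i : Fin m) {w : k[X]} (hw : w ≠ 0)
    (hs : rootMultiplicity (r i) w ≠ a i) {n : ℕ} (h : (X - C (r i)) ^ n ∣ TT r a w) :
    (X - C (r i)) ^ n ∣ w := by
  obtain ⟨u, hu, hu'⟩ := exists_eq_pow_rootMultiplicity_mul_and_not_dvd w hw (r i)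
  rw [dvd_iff_order hw]
  obtain ⟨s, hs'⟩ : ∃ s, rootMultiplicity (r i) w = s := ⟨_, rfl⟩
  rw [hs'] at hs hu ⊢
  by_contra hlt
  push Not at hlt
  have h1 : (X - C (r i)) ^ (s + 1) ∣ TT r a w := (pow_dvd_pow _ hlt).trans h
  obtain ⟨R', hR'⟩ : ∃ R', R' = ∏ j ∈ Finset.univ.erase i, (X - C (r j)) := ⟨_, rfl⟩
  have hRR : RR r = (X - C (r i)) * R' := by
    rw [RR, hR', Finset.mul_prod_erase _ (fun j => X - C (r j)) (Finset.mem_univ i)]
  have hGG : ∃ G', GG r a = C (a i : k) * R' + (X - C (r i)) * G' := by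
    refine ⟨∑ j ∈ Finset.univ.erase i, C (a j : k) *
      ∏ l ∈ (Finset.univ.erase j).erase i, (X - C (r l)), ?_⟩
    rw [GG, ← Finset.add_sum_erase _ _ (Finset.mem_univ i), ← hR', Finset.mul_sum]
    congr 1
    refine Finset.sum_congr rfl fun j hj => ?_
    have hij : i ∈ Finset.univ.erase j :=
      Finset.mem_erase.mpr ⟨(Finset.ne_of_mem_erase hj).symm, Finset.mem_univ i⟩
    rw [← Finset.mul_prod_erase _ _ hij]
    ring
  obtain ⟨G', hG'⟩ := hGG
  rw [hu, TT_mul, TT_apply, derivative_X_sub_C_pow, hRR, hG'] at h1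
  have h2 : (X - C (r i)) ^ s * (X - C (r i)) ∣
      (X - C (r i)) ^ s * ((X - C (r i)) * (R' * derivative u - G' * u) +
        C ((s : k) - (a i : k)) * R' * u) := by
    rw [← pow_succ]
    convert h1 using 1
    rw [C_sub]
    rcases Nat.eq_zero_or_pos s with h0 | h0
    · subst h0
      simp
      ring
    · obtain ⟨t, rfl⟩ : ∃ t, s = t + 1 := ⟨s - 1, by omega⟩
      rw [Nat.add_sub_cancel, pow_succ]
      ring
  have h3 := (mul_dvd_mul_iff_left (pow_ne_zero _ (X_sub_C_ne_zero (r i)))).mp h2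
  have h4 := (dvd_add_right (Dvd.intro _ rfl)).mp h3
  rw [dvd_iff_isRoot, IsRoot.def, eval_mul, eval_mul, eval_C] at h4
  rw [dvd_iff_isRoot, IsRoot.def] at hu'
  rcases mul_eq_zero.mp h4 with h5 | h5
  · rcases mul_eq_zero.mp h5 with h6 | h6
    · exact hs (Nat.cast_injective (sub_eq_zero.mp h6))
    · rw [hR'] at h6
      exact Ri_eval_ne_zero r hr i h6
  · exact hu' h5

omit [CharZero k] in
theorem EE_eq_marked (i : Fin m) :
    EE r a = (X - C (r i)) ^ (a i) * ∏ j ∈ Finset.univ.erase i, (X - C (r j)) ^ a j := by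
  rw [EE, Finset.mul_prod_erase _ (fun j => (X - C (r j)) ^ a j) (Finset.mem_univ i)]

theorem exists_sub_marked (hr : Function.Injective r) (i : Fin m) {w : k[X]} {n : ℕ}
    (h : (X - C (r i)) ^ n ∣ TT r a w) :
    ∃ c : k, (X - C (r i)) ^ n ∣ w - C c * EE r a := by
  by_cases hw : (X - C (r i)) ^ (a i) ∣ w
  · obtain ⟨u, hu⟩ := hw
    obtain ⟨c, hc⟩ : ∃ c : k, (X - C (r i)) ^ (a i + 1) ∣ w - C c * EE r a := by
      refine ⟨u.eval (r i) /
        (∏ j ∈ Finset.univ.erase i, (X - C (r j)) ^ a j).eval (r i), ?_⟩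
      rw [hu, EE_eq_marked r a i, mul_left_comm, ← mul_sub, pow_succ]
      refine mul_dvd_mul_left _ ?_
      rw [dvd_iff_isRoot, IsRoot.def, eval_sub, eval_mul, eval_C,
        div_mul_cancel₀ _ (Ei_eval_ne_zero r a hr i), sub_self]
    refine ⟨c, ?_⟩
    by_cases h0 : w - C c * EE r a = 0
    · rw [h0]; exact dvd_zero _
    refine order_marked r a hr i h0 ?_ ?_
    · have := (dvd_iff_order h0 _).mp hc
      omega
    · rw [map_sub, ← smul_eq_C_mul, map_smul, TT_EE, smul_zero, sub_zero]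
      exact h
  · refine ⟨0, ?_⟩
    rw [C_0, zero_mul, sub_zero]
    have hw0 : w ≠ 0 := by rintro rfl; exact hw (dvd_zero _)
    refine order_marked r a hr i hw0 ?_ h
    rw [dvd_iff_order hw0] at hw
    omega

omit [CharZero k] in
theorem dvd_TT_marked (i : Fin m) {w : k[X]} {n : ℕ} (h : (X - C (r i)) ^ n ∣ w) :
    (X - C (r i)) ^ n ∣ TT r a w := by
  obtain ⟨u, rfl⟩ := h
  rw [TT_mul, derivative_X_sub_C_pow]
  refine dvd_add (Dvd.intro _ rfl) ?_
  have hRR : RR r = (X - C (r i)) * ∏ j ∈ Finset.univ.erase i, (X - C (r j)) := by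
    rw [RR, Finset.mul_prod_erase _ (fun j => X - C (r j)) (Finset.mem_univ i)]
  rw [hRR]
  rcases Nat.eq_zero_or_pos n with h0 | h0
  · subst h0; simp
  · obtain ⟨t, rfl⟩ : ∃ t, n = t + 1 := ⟨n - 1, by omega⟩
    rw [Nat.add_sub_cancel]
    exact ⟨(∏ j ∈ Finset.univ.erase i, (X - C (r j))) * C ((t + 1 : ℕ) : k) * u, by ring⟩

end K924.Wronsk
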