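import Mathlib
import Groth.Agent.W4c4effdivwronsk2.K924.Basic

/-!
# Dimensions of the spaces `V(-n q)`
-/

set_option autoImplicit false
open Polynomial

namespace K924.Wronsk

variable {k : Type*} [Field k] {m : ℕ} (r : Fin m → k) (a : Fin m → ℕ)

section general

instance (n : ℕ) : Module.Finite k (degreeLT k n) := inferInstance

theorem finrank_degreeLT (n : ℕ) : Module.finrank k (degreeLT k n) = n := by
  rw [LinearEquiv.finrank_eq (degreeLTEquiv k n), Module.finrank_fin_fun]

/-- Restricting the ideal to scalars. -/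
theorem mem_span_restrict (q : k) (n : ℕ) (w : k[X]) :
    w ∈ (Ideal.span {(X - C q) ^ n}).restrictScalars k ↔ (X - C q) ^ n ∣ w := by
  rw [Submodule.restrictScalars_mem, Ideal.mem_span_singleton]

theorem degreeLT_inf_eq (q : k) (n s : ℕ) :
    degreeLT k n ⊓ (Ideal.span {(X - C q) ^ s}).restrictScalars k =
      (degreeLT k (n - s)).map (LinearMap.mulLeft k ((X - C q) ^ s)) := by
  ext f
  rw [Submodule.mem_inf, mem_span_restrict, Submodule.mem_map, mem_degreeLT]
  constructor
  · rintro ⟨h1, g, rfl⟩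
    refine ⟨g, ?_, rfl⟩
    by_cases hg : g = 0
    · rw [hg]; exact Submodule.zero_mem _
    rw [mem_degreeLT, degree_eq_natDegree hg, Nat.cast_lt]
    rw [degree_mul, degree_pow, degree_X_sub_C, degree_eq_natDegree hg, nsmul_one,
      ← Nat.cast_add, Nat.cast_lt] at h1
    omega
  · rintro ⟨g, hg, rfl⟩
    refine ⟨?_, Dvd.intro _ rfl⟩
    by_cases hg0 : g = 0
    · rw [hg0]; simp
    rw [mem_degreeLT, degree_eq_natDegree hg0, Nat.cast_lt] at hg
    rw [LinearMap.mulLeft_apply, degree_mul, degree_pow, degree_X_sub_C, degree_eq_natDegree hg0,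
      nsmul_one, ← Nat.cast_add, Nat.cast_lt]
    omega

theorem finrank_degreeLT_inf (q : k) (n s : ℕ) :
    Module.finrank k
      ↥(degreeLT k n ⊓ (Ideal.span {(X - C q) ^ s}).restrictScalars k) = n - s := by
  rw [degreeLT_inf_eq]
  have hinj : Function.Injective (LinearMap.mulLeft k ((X - C q) ^ s : k[X])) :=
    fun x y h => mul_left_cancel₀ (pow_ne_zero _ (X_sub_C_ne_zero q)) h
  rw [← LinearEquiv.finrank_eq (Submodule.equivMapOfInjective _ hinj _), finrank_degreeLT]

instance finite_inf_left (P : Submodule k k[X]) (Q : Submodule k k[X]) [Module.Finite k P] :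
    Module.Finite k ↥(P ⊓ Q) :=
  Submodule.finiteDimensional_inf_left P Q

end general

section dims

variable [CharZero k]

theorem antideriv (n : ℕ) : degreeLT k n ≤ (degreeLT k (n + 1)).map derivative := by
  classical
  rw [degreeLT_eq_span_X_pow, Submodule.span_le]
  intro f hf
  simp only [Finset.coe_image, Finset.coe_range, Set.mem_image, Set.mem_Iio] at hf
  obtain ⟨i, hi, rfl⟩ := hf
  refine ⟨C ((i + 1 : ℕ) : k)⁻¹ * X ^ (i + 1), ?_, ?_⟩
  · rw [SetLike.mem_coe, mem_degreeLT]
    exact (degree_C_mul_X_pow_le _ _).trans_lt (by exact_mod_cast Nat.succ_lt_succ hi)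
  · rw [derivative_C_mul_X_pow, Nat.add_sub_cancel, inv_mul_cancel₀ (Nat.cast_ne_zero.mpr (Nat.succ_ne_zero i)),
      C_1, one_mul]

omit [CharZero k] in
/-- The image of `E / (X - r_i)^(a_i - t)`. -/
theorem TT_partial (i : Fin m) (t : ℕ) (ht : t ≤ a i) :
    TT r a ((∏ j ∈ Finset.univ.erase i, (X - C (r j)) ^ a j) * (X - C (r i)) ^ t) =
      - (C ((a i - t : ℕ) : k) * ((∏ j ∈ Finset.univ.erase i, (X - C (r j)) ^ (a j + 1)) *
        (X - C (r i)) ^ t)) := by
  obtain ⟨s, hs⟩ : ∃ s, a i = s + t := ⟨a i - t, by omega⟩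
  have hne : (X - C (r i)) ^ s ≠ 0 := pow_ne_zero _ (X_sub_C_ne_zero (r i))
  apply mul_left_cancel₀ hne
  have h1 := TT_EE r a
  rw [EE_eq_marked r a i, hs, pow_add, mul_assoc, mul_comm _ (∏ j ∈ _, _), TT_mul] at h1
  have h2 : RR r = (X - C (r i)) * ∏ j ∈ Finset.univ.erase i, (X - C (r j)) := by
    rw [RR, Finset.mul_prod_erase _ (fun j => X - C (r j)) (Finset.mem_univ i)]
  have h3 : ∏ j ∈ Finset.univ.erase i, (X - C (r j)) ^ (a j + 1) =
      (∏ j ∈ Finset.univ.erase i, (X - C (r j))) *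
        ∏ j ∈ Finset.univ.erase i, (X - C (r j)) ^ (a j) := by
    rw [← Finset.prod_mul_distrib]
    exact Finset.prod_congr rfl fun j _ => pow_succ' _ _
  rw [hs, Nat.add_sub_cancel, h3]
  rw [derivative_X_sub_C_pow, h2] at h1
  rcases Nat.eq_zero_or_pos s with h0 | h0
  · subst h0
    simp only [pow_zero, one_mul, Nat.cast_zero, C_0, zero_mul, mul_zero, add_zero, neg_zero] at h1 ⊢
    exact h1
  · obtain ⟨u, rfl⟩ : ∃ u, s = u + 1 := ⟨s - 1, by omega⟩
    rw [Nat.add_sub_cancel] at h1
    linear_combination h1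

/-- The powers of `X - q` as a sequence of polynomials. -/
noncomputable def seqPow (q : k) : Polynomial.Sequence k :=
  ⟨fun i => (X - C q) ^ i, fun i => by rw [degree_pow, degree_X_sub_C, nsmul_one]⟩

omit [CharZero k] in
theorem span_pow (q : k) (n : ℕ) :
    Submodule.span k ((fun i : ℕ => (X - C q) ^ i) '' Set.Iio n) = degreeLT k n :=
  (seqPow q).span_degreeLT (fun i _ => by
    show IsUnit ((X - C q) ^ i : k[X]).leadingCoeff
    rw [((monic_X_sub_C q).pow i).leadingCoeff]
    exact isUnit_one)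

theorem VV_le (b : ℕ) : VV r a b ≤ (degreeLT k ((∑ j, a j) + b + 1)).map (TT r a) := by
  refine sup_le ?_ (iSup_le fun i => ?_)
  · rintro _ ⟨f, hf, rfl⟩
    obtain ⟨g, hg, hgf⟩ := antideriv b hf
    refine ⟨EE r a * g, ?_, ?_⟩
    · rw [SetLike.mem_coe, mem_degreeLT] at hg ⊢
      by_cases hg0 : g = 0
      · rw [hg0, mul_zero, degree_zero]; exact WithBot.bot_lt_coe _
      rw [degree_eq_natDegree hg0, Nat.cast_lt] at hg
      rw [degree_mul, degree_eq_natDegree (EE_ne_zero r a), EE_natDegree, degree_eq_natDegree hg0,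
        ← Nat.cast_add, Nat.cast_lt]
      omega
    · rw [TT_EE_mul, hgf, RR_mul_EE]; rfl
  · rw [← span_pow (r i) (a i), Submodule.map_span, Submodule.span_le]
    rintro _ ⟨_, ⟨t, ht, rfl⟩, rfl⟩
    rw [Set.mem_Iio] at ht
    refine ⟨C (-((a i - t : ℕ) : k)⁻¹) *
      ((∏ j ∈ Finset.univ.erase i, (X - C (r j)) ^ a j) * (X - C (r i)) ^ t), ?_, ?_⟩
    · rw [SetLike.mem_coe, ← smul_eq_C_mul]
      refine Submodule.smul_mem _ _ ?_
      rw [mem_degreeLT]
      have hmon : ((∏ j ∈ Finset.univ.erase i, (X - C (r j)) ^ a j) * (X - C (r i)) ^ t).Monic :=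
        (monic_prod_of_monic _ _ fun j _ => (monic_X_sub_C (r j)).pow _).mul
          ((monic_X_sub_C (r i)).pow t)
      rw [degree_eq_natDegree hmon.ne_zero, Nat.cast_lt,
        Monic.natDegree_mul (monic_prod_of_monic _ _ fun j _ => (monic_X_sub_C (r j)).pow _)
          ((monic_X_sub_C (r i)).pow t),
        natDegree_prod_of_monic _ _ fun j _ => (monic_X_sub_C (r j)).pow _]
      have h1 : ∑ j ∈ Finset.univ.erase i, ((X - C (r j)) ^ a j : k[X]).natDegree + a i = ∑ j, a j := by
        rw [← Finset.add_sum_erase Finset.univ a (Finset.mem_univ i), add_comm]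
        simp
      have h2 : ((X - C (r i)) ^ t : k[X]).natDegree = t := by simp
      omega
    · have hne : ((a i - t : ℕ) : k) ≠ 0 := Nat.cast_ne_zero.mpr (by omega)
      rw [← smul_eq_C_mul, map_smul, TT_partial r a i t ht.le, LinearMap.mulLeft_apply,
        smul_eq_C_mul, C_neg, neg_mul_neg, ← mul_assoc, ← C_mul, inv_mul_cancel₀ hne, C_1, one_mul]

/-- The parametrisation of `VV`. -/
noncomputable def param (b : ℕ) :
    (degreeLT k b × ((i : Fin m) → degreeLT k (a i))) →ₗ[k] k[X] where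
  toFun x := (∏ j, (X - C (r j)) ^ (a j + 1)) * (x.1 : k[X]) +
    ∑ i, (∏ j ∈ Finset.univ.erase i, (X - C (r j)) ^ (a j + 1)) * (x.2 i : k[X])
  map_add' x y := by
    simp only [Prod.fst_add, Prod.snd_add, Submodule.coe_add, Pi.add_apply, mul_add,
      Finset.sum_add_distrib]
    ring
  map_smul' c x := by
    simp only [Prod.smul_fst, Prod.smul_snd, Submodule.coe_smul, Pi.smul_apply, mul_smul_comm,
      RingHom.id_apply, smul_add, Finset.smul_sum]

omit [CharZero k] in
theorem range_param_le (b : ℕ) : LinearMap.range (param r a b) ≤ VV r a b := by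
  rintro _ ⟨x, rfl⟩
  refine Submodule.add_mem _ (Submodule.mem_sup_left ⟨_, x.1.2, rfl⟩)
    (Submodule.mem_sup_right (Submodule.sum_mem _ fun i _ => ?_))
  exact Submodule.mem_iSup_of_mem i ⟨_, (x.2 i).2, rfl⟩

omit [CharZero k] in
theorem param_injective (hr : Function.Injective r) (b : ℕ) :
    Function.Injective (param r a b) := by
  rw [← LinearMap.ker_eq_bot, LinearMap.ker_eq_bot']
  rintro ⟨f, g⟩ h
  have h' : (∏ j, (X - C (r j)) ^ (a j + 1)) * (f : k[X]) +
    ∑ i, (∏ j ∈ Finset.univ.erase i, (X - C (r j)) ^ (a j + 1)) * (g i : k[X]) = 0 := h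
  have hg : ∀ i, (g i : k[X]) = 0 := by
    intro i
    have hd1 : (X - C (r i)) ^ (a i + 1) ∣ (∏ j, (X - C (r j)) ^ (a j + 1)) * (f : k[X]) :=
      Dvd.dvd.mul_right (Finset.dvd_prod_of_mem (fun j => (X - C (r j)) ^ (a j + 1))
        (Finset.mem_univ i)) _
    rw [← Finset.add_sum_erase _ _ (Finset.mem_univ i)] at h'
    have hd2 : (X - C (r i)) ^ (a i + 1) ∣ ∑ l ∈ Finset.univ.erase i,
        (∏ j ∈ Finset.univ.erase l, (X - C (r j)) ^ (a j + 1)) * (g l : k[X]) := by
      refine Finset.dvd_sum fun l hl => Dvd.dvd.mul_right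
        (Finset.dvd_prod_of_mem (fun j => (X - C (r j)) ^ (a j + 1)) ?_) _
      exact Finset.mem_erase.mpr ⟨(Finset.ne_of_mem_erase hl).symm, Finset.mem_univ i⟩
    have hd3 : (X - C (r i)) ^ (a i + 1) ∣
        (∏ j ∈ Finset.univ.erase i, (X - C (r j)) ^ (a j + 1)) * (g i : k[X]) := by
      have h4 := (dvd_add_right hd1).mp (by rw [h']; exact dvd_zero _)
      exact (dvd_add_left hd2).mp h4
    have hcop : IsCoprime ((X - C (r i)) ^ (a i + 1))
        (∏ j ∈ Finset.univ.erase i, (X - C (r j)) ^ (a j + 1)) := by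
      refine IsCoprime.prod_right fun j hj => IsCoprime.pow ?_
      refine isCoprime_X_sub_C_of_isUnit_sub ?_
      rw [isUnit_iff_ne_zero]
      exact sub_ne_zero.mpr (fun h => Finset.ne_of_mem_erase hj (hr h).symm)
    have hd4 := hcop.dvd_of_dvd_mul_left hd3
    refine eq_zero_of_dvd_of_degree_lt hd4 ?_
    have h5 := mem_degreeLT.mp (g i).2
    refine h5.trans ?_
    rw [degree_pow, degree_X_sub_C, nsmul_one]
    exact_mod_cast Nat.lt_succ_self _
  have hf : (f : k[X]) = 0 := by
    simp only [hg, mul_zero, Finset.sum_const_zero, add_zero] at h'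
    refine (mul_eq_zero.mp h').resolve_left ?_
    exact Finset.prod_ne_zero_iff.mpr fun j _ => pow_ne_zero _ (X_sub_C_ne_zero _)
  refine Prod.ext (Subtype.ext hf) (funext fun i => Subtype.ext (hg i))

theorem finrank_map_TT_of_mem (Q : Submodule k k[X]) [Module.Finite k Q] (h : EE r a ∈ Q) :
    Module.finrank k (Q.map (TT r a)) + 1 = Module.finrank k Q := by
  have h1 := LinearMap.finrank_range_add_finrank_ker ((TT r a).domRestrict Q)
  rw [LinearMap.range_domRestrict] at h1
  rw [← h1]
  congr 1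
  symm
  refine finrank_eq_one (R := k) (M := LinearMap.ker ((TT r a).domRestrict Q))
    ⟨⟨EE r a, h⟩, by rw [LinearMap.mem_ker]; exact TT_EE r a⟩ ?_ ?_
  · intro h0
    exact EE_ne_zero r a (congrArg (fun z => ((z : LinearMap.ker ((TT r a).domRestrict Q)) : k[X])) h0)
  · rintro ⟨⟨w, hw⟩, hw'⟩
    obtain ⟨c, hc⟩ := mem_ker_TT r a (LinearMap.mem_ker.mp hw')
    refine ⟨c, Subtype.ext (Subtype.ext ?_)⟩
    have hc' : w = C c * EE r a := hc
    show c • EE r a = w
    rw [hc', smul_eq_C_mul]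

theorem finrank_map_TT_of_notMem (Q : Submodule k k[X]) [Module.Finite k Q] (h : EE r a ∉ Q) :
    Module.finrank k (Q.map (TT r a)) = Module.finrank k Q := by
  have h1 := LinearMap.finrank_range_add_finrank_ker ((TT r a).domRestrict Q)
  rw [LinearMap.range_domRestrict] at h1
  rw [← h1]
  have hbot : LinearMap.ker ((TT r a).domRestrict Q) = ⊥ := by
    rw [LinearMap.ker_eq_bot']
    rintro ⟨w, hw⟩ hw'
    obtain ⟨c, hc⟩ := mem_ker_TT r a hw'
    by_cases h0 : c = 0
    · rw [h0, C_0, zero_mul] at hc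
      exact Subtype.ext hc
    · exfalso
      apply h
      have : EE r a = c⁻¹ • w := by
        have hc' : w = C c * EE r a := hc
        rw [hc', smul_eq_C_mul, ← mul_assoc, ← C_mul, inv_mul_cancel₀ h0, C_1, one_mul]
      rw [this]
      exact Submodule.smul_mem _ _ hw
  rw [hbot, finrank_bot, add_zero]

omit [CharZero k] in
theorem EE_mem_degreeLT {n : ℕ} : EE r a ∈ degreeLT k n ↔ ∑ j, a j < n := by
  rw [mem_degreeLT, degree_eq_natDegree (EE_ne_zero r a), EE_natDegree, Nat.cast_lt]

/-- `V` is the image of `k[X]_{≤ N}` under `T`. -/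
theorem VV_eq (hr : Function.Injective r) (b : ℕ) :
    VV r a b = (degreeLT k ((∑ j, a j) + b + 1)).map (TT r a) := by
  refine Submodule.eq_of_le_of_finrank_le (VV_le r a b) ?_
  have h1 := finrank_map_TT_of_mem r a (degreeLT k ((∑ j, a j) + b + 1))
    ((EE_mem_degreeLT r a).mpr (by omega))
  rw [finrank_degreeLT] at h1
  have h2 := LinearMap.finrank_range_of_inj (param_injective r a hr b)
  rw [Module.finrank_prod, Module.finrank_pi_fintype] at h2
  simp only [finrank_degreeLT] at h2
  have : Module.Finite k (VV r a b) :=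
    Submodule.finiteDimensional_of_le (VV_le r a b)
  have h3 := Submodule.finrank_mono (range_param_le r a b)
  omega

theorem finrank_VV (hr : Function.Injective r) (b : ℕ) :
    Module.finrank k (VV r a b) = (∑ j, a j) + b := by
  rw [VV_eq r a hr]
  have h1 := finrank_map_TT_of_mem r a (degreeLT k ((∑ j, a j) + b + 1))
    ((EE_mem_degreeLT r a).mpr (by omega))
  rw [finrank_degreeLT] at h1
  omega

theorem finite_VV (b : ℕ) : Module.Finite k (VV r a b) :=
  Submodule.finiteDimensional_of_le (VV_le r a b)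

/-! ### unmarked points -/

theorem inf_unmarked (hr : Function.Injective r) (b : ℕ) {q : k} (hq : ∀ j, q ≠ r j) (n : ℕ) :
    VV r a b ⊓ (Ideal.span {(X - C q) ^ n}).restrictScalars k =
      (degreeLT k ((∑ j, a j) + b + 1) ⊓
        (Ideal.span {(X - C q) ^ (n + 1)}).restrictScalars k).map (TT r a) := by
  rw [VV_eq r a hr]
  ext f
  rw [Submodule.mem_inf, mem_span_restrict]
  constructor
  · rintro ⟨⟨w, hw, rfl⟩, hd⟩
    obtain ⟨c, hc⟩ := exists_sub_unmarked r a hq hd
    refine ⟨w - C c * EE r a, ⟨?_, ?_⟩, ?_⟩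
    · refine Submodule.sub_mem _ hw ?_
      rw [← smul_eq_C_mul]
      exact Submodule.smul_mem _ _ ((EE_mem_degreeLT r a).mpr (by omega))
    · exact (mem_span_restrict _ _ _).mpr hc
    · rw [map_sub, ← smul_eq_C_mul, map_smul, TT_EE, smul_zero, sub_zero]
  · rintro ⟨w, ⟨hw, hw'⟩, rfl⟩
    exact ⟨⟨w, hw, rfl⟩, dvd_TT_unmarked r a ((mem_span_restrict _ _ _).mp hw')⟩

theorem finrank_unmarked (hr : Function.Injective r) (b : ℕ) {q : k} (hq : ∀ j, q ≠ r j) (n : ℕ) :
    Module.finrank k ↥(VV r a b ⊓ (Ideal.span {(X - C q) ^ n}).restrictScalars k) =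
      (∑ j, a j) + b - n := by
  rw [inf_unmarked r a hr b hq, finrank_map_TT_of_notMem, finrank_degreeLT_inf]
  · omega
  · rintro ⟨_, h2⟩
    have h3 := (mem_span_restrict _ _ _).mp h2
    have h4 : (X - C q) ∣ EE r a := (dvd_pow_self _ (Nat.succ_ne_zero n)).trans h3
    rw [dvd_iff_isRoot] at h4
    exact EE_eval_ne_zero r a hq h4

/-! ### marked points -/

theorem inf_marked (hr : Function.Injective r) (b : ℕ) (i : Fin m) (n : ℕ) :
    VV r a b ⊓ (Ideal.span {(X - C (r i)) ^ n}).restrictScalars k =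
      (degreeLT k ((∑ j, a j) + b + 1) ⊓
        (Ideal.span {(X - C (r i)) ^ n}).restrictScalars k).map (TT r a) := by
  rw [VV_eq r a hr]
  ext f
  rw [Submodule.mem_inf, mem_span_restrict]
  constructor
  · rintro ⟨⟨w, hw, rfl⟩, hd⟩
    obtain ⟨c, hc⟩ := exists_sub_marked r a hr i hd
    refine ⟨w - C c * EE r a, ⟨?_, ?_⟩, ?_⟩
    · refine Submodule.sub_mem _ hw ?_
      rw [← smul_eq_C_mul]
      exact Submodule.smul_mem _ _ ((EE_mem_degreeLT r a).mpr (by omega))
    · exact (mem_span_restrict _ _ _).mpr hc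
    · rw [map_sub, ← smul_eq_C_mul, map_smul, TT_EE, smul_zero, sub_zero]
  · rintro ⟨w, ⟨hw, hw'⟩, rfl⟩
    exact ⟨⟨w, hw, rfl⟩, dvd_TT_marked r a i ((mem_span_restrict _ _ _).mp hw')⟩

theorem finrank_marked (hr : Function.Injective r) (b : ℕ) (i : Fin m) (n : ℕ) :
    Module.finrank k ↥(VV r a b ⊓ (Ideal.span {(X - C (r i)) ^ n}).restrictScalars k) =
      if n ≤ a i then (∑ j, a j) + b - n else (∑ j, a j) + b + 1 - n := by
  have hai : a i ≤ ∑ j, a j := Finset.single_le_sum (fun j _ => Nat.zero_le _) (Finset.mem_univ i)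
  rw [inf_marked r a hr b i]
  split_ifs with h
  · have h1 := finrank_map_TT_of_mem r a (degreeLT k ((∑ j, a j) + b + 1) ⊓
        (Ideal.span {(X - C (r i)) ^ n}).restrictScalars k) ⟨(EE_mem_degreeLT r a).mpr (by omega), by
          refine (mem_span_restrict _ _ _).mpr ?_
          rw [EE_eq_marked r a i]
          exact (pow_dvd_pow _ h).mul_right _⟩
    rw [finrank_degreeLT_inf] at h1
    omega
  · rw [finrank_map_TT_of_notMem, finrank_degreeLT_inf]
    rintro ⟨_, h2⟩
    have h3 := (mem_span_restrict _ _ _).mp h2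
    have h4 : (X - C (r i)) ^ (a i + 1) ∣ EE r a := (pow_dvd_pow _ (by omega)).trans h3
    rw [EE_eq_marked r a i, pow_succ] at h4
    have h5 := (mul_dvd_mul_iff_left (pow_ne_zero _ (X_sub_C_ne_zero (r i)))).mp h4
    rw [dvd_iff_isRoot] at h5
    exact Ei_eval_ne_zero r a hr i h5

/-! ### infinity -/

omit [CharZero k] in
theorem XGG_natDegree_le : (X * GG r a).natDegree ≤ m := by
  rw [GG, Finset.mul_sum]
  refine natDegree_sum_le_of_forall_le _ _ fun j _ => ?_
  rw [mul_left_comm]
  refine (natDegree_C_mul_le _ _).trans ?_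
  rw [Monic.natDegree_mul monic_X (monic_prod_of_monic _ _ fun j _ => monic_X_sub_C (r j)),
    natDegree_prod_of_monic _ _ fun j _ => monic_X_sub_C (r j)]
  simp only [natDegree_X, natDegree_X_sub_C, Finset.sum_const, Finset.card_erase_of_mem (Finset.mem_univ j),
    Finset.card_univ, Fintype.card_fin]
  have := j.2
  simp only [smul_eq_mul, mul_one]
  omega

omit [CharZero k] in
theorem XGG_coeff : (X * GG r a).coeff m = ((∑ j, a j : ℕ) : k) := by
  rw [GG, Finset.mul_sum, finsetSum_coeff, Nat.cast_sum]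
  refine Finset.sum_congr rfl fun j _ => ?_
  rw [mul_left_comm, coeff_C_mul]
  have hmon : (X * ∏ i ∈ Finset.univ.erase j, (X - C (r i))).Monic :=
    monic_X.mul (monic_prod_of_monic _ _ fun j _ => monic_X_sub_C (r j))
  have hdeg : (X * ∏ i ∈ Finset.univ.erase j, (X - C (r i))).natDegree = m := by
    rw [Monic.natDegree_mul monic_X (monic_prod_of_monic _ _ fun j _ => monic_X_sub_C (r j)),
      natDegree_prod_of_monic _ _ fun j _ => monic_X_sub_C (r j)]
    simp only [natDegree_X, natDegree_X_sub_C, Finset.sum_const,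
      Finset.card_erase_of_mem (Finset.mem_univ j), Finset.card_univ, Fintype.card_fin]
    have := j.2
    simp only [smul_eq_mul, mul_one]
    omega
  have := hmon.coeff_natDegree
  rw [hdeg] at this
  rw [this, mul_one]

omit [CharZero k] in
theorem X_mul_derivative_coeff (w : k[X]) (s : ℕ) :
    (X * derivative w).coeff s = (s : k) * w.coeff s := by
  cases s with
  | zero => simp
  | succ s => rw [coeff_X_mul, coeff_derivative]; push_cast; ring

omit [CharZero k] in
theorem X_mul_TT (w : k[X]) :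
    X * TT r a w = RR r * (X * derivative w) - (X * GG r a) * w := by
  rw [TT_apply]; ring

omit [CharZero k] in
theorem X_mul_derivative_natDegree_le (w : k[X]) :
    (X * derivative w).natDegree ≤ w.natDegree := by
  rw [natDegree_le_iff_coeff_eq_zero]
  intro N hN
  rw [X_mul_derivative_coeff, coeff_eq_zero_of_natDegree_lt hN, mul_zero]

omit [CharZero k] in
theorem X_mul_TT_coeff (w : k[X]) (s : ℕ) (hs : w.natDegree ≤ s) :
    (X * TT r a w).coeff (m + s) = ((s : k) - ((∑ j, a j : ℕ) : k)) * w.coeff s := by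
  rw [X_mul_TT, coeff_sub, coeff_mul_add_eq_of_natDegree_le (RR_natDegree r).le
    ((X_mul_derivative_natDegree_le w).trans hs), coeff_mul_add_eq_of_natDegree_le (XGG_natDegree_le r a) hs,
    XGG_coeff, X_mul_derivative_coeff]
  have := (RR_monic r).coeff_natDegree
  rw [RR_natDegree] at this
  rw [this]
  ring

/-- If `deg w ≠ deg E`, then `T w` has degree exactly `m - 1 + deg w`. -/
theorem degree_TT {w : k[X]} (hw : w ≠ 0) (hs : w.natDegree ≠ ∑ j, a j) {K : ℕ}
    (h : TT r a w ∈ degreeLT k K) : m + w.natDegree ≤ K := by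
  have h1 := X_mul_TT_coeff r a w w.natDegree le_rfl
  by_contra hlt
  push Not at hlt
  obtain ⟨t, ht⟩ : ∃ t, m + w.natDegree = t + 1 := ⟨m + w.natDegree - 1, by omega⟩
  rw [ht, coeff_X_mul, coeff_eq_zero_of_degree_lt] at h1
  · rcases mul_eq_zero.mp h1.symm with h2 | h2
    · exact hs (Nat.cast_injective (sub_eq_zero.mp h2))
    · exact hw (leadingCoeff_eq_zero.mp h2)
  · refine (mem_degreeLT.mp h).trans_le ?_
    exact_mod_cast (by omega : K ≤ t)

omit [CharZero k] in
theorem TT_mem_degreeLT {w : k[X]} {s : ℕ} (h : w ∈ degreeLT k (s + 1)) :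
    TT r a w ∈ degreeLT k (m + s) := by
  have hs : w.natDegree ≤ s := by
    by_cases hw : w = 0
    · rw [hw]; simp
    rw [mem_degreeLT, degree_eq_natDegree hw, Nat.cast_lt] at h
    omega
  rw [mem_degreeLT, degree_lt_iff_coeff_zero]
  intro t ht
  have h1 := X_mul_TT r a w
  have h2 : (X * TT r a w).coeff (t + 1) = 0 := by
    rw [h1]
    apply coeff_eq_zero_of_natDegree_lt
    refine lt_of_le_of_lt (natDegree_sub_le _ _) ?_
    refine max_lt ?_ ?_
    · refine lt_of_le_of_lt natDegree_mul_le ?_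
      have := X_mul_derivative_natDegree_le w
      rw [RR_natDegree]
      omega
    · refine lt_of_le_of_lt natDegree_mul_le ?_
      have := XGG_natDegree_le r a
      omega
  rwa [coeff_X_mul] at h2

theorem exists_sub_infty {w : k[X]} {K n N : ℕ} (hK : K = N + m - n) (hN : ∑ j, a j ≤ N)
    (h : TT r a w ∈ degreeLT k K) :
    ∃ c : k, w - C c * EE r a ∈ degreeLT k (N + 1 - n) := by
  have key : ∀ w : k[X], TT r a w ∈ degreeLT k K → w.natDegree ≠ ∑ j, a j →
      w ∈ degreeLT k (N + 1 - n) := by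
    intro w h hs
    by_cases hw : w = 0
    · rw [hw]; exact Submodule.zero_mem _
    have h1 := degree_TT r a hw hs h
    rw [mem_degreeLT, degree_eq_natDegree hw, Nat.cast_lt]
    rcases Nat.eq_zero_or_pos (m + w.natDegree) with h0 | h0
    · exfalso
      obtain rfl : m = 0 := by omega
      apply hs
      simp
      omega
    · omega
  by_cases hs : w.natDegree = ∑ j, a j
  · refine ⟨w.leadingCoeff, ?_⟩
    by_cases hw0 : w - C w.leadingCoeff * EE r a = 0
    · rw [hw0]; exact Submodule.zero_mem _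
    by_cases hw : w = 0
    · exfalso; apply hw0; rw [hw]; simp
    refine key _ ?_ ?_
    · rw [map_sub, ← smul_eq_C_mul, map_smul, TT_EE, smul_zero, sub_zero]; exact h
    · have hlt : (w - C w.leadingCoeff * EE r a).degree < w.degree := by
        refine degree_sub_lt_left ?_ hw ?_
        · rw [degree_C_mul (leadingCoeff_ne_zero.mpr hw), degree_eq_natDegree hw,
            degree_eq_natDegree (EE_ne_zero r a), EE_natDegree, hs]
        · rw [leadingCoeff_mul, leadingCoeff_C, (EE_monic r a).leadingCoeff, mul_one]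
      rw [degree_eq_natDegree hw, degree_eq_natDegree hw0, Nat.cast_lt, hs] at hlt
      omega
  · exact ⟨0, by rw [C_0, zero_mul, sub_zero]; exact key w h hs⟩

theorem inf_infty (hr : Function.Injective r) (b : ℕ) (n : ℕ) :
    VV r a b ⊓ degreeLT k ((∑ j, a j) + b + m - n) =
      (degreeLT k ((∑ j, a j) + b + 1 - n)).map (TT r a) := by
  rw [VV_eq r a hr]
  ext f
  rw [Submodule.mem_inf]
  constructor
  · rintro ⟨⟨w, hw, rfl⟩, hd⟩
    obtain ⟨c, hc⟩ := exists_sub_infty r a rfl (by omega) hd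
    refine ⟨w - C c * EE r a, hc, ?_⟩
    rw [map_sub, ← smul_eq_C_mul, map_smul, TT_EE, smul_zero, sub_zero]
  · rintro ⟨w, hw, rfl⟩
    refine ⟨⟨w, degreeLT_mono (by omega) hw, rfl⟩, ?_⟩
    rcases Nat.lt_or_ge ((∑ j, a j) + b) n with hn | hn
    · have : w = 0 := by
        rw [SetLike.mem_coe, show (∑ j, a j) + b + 1 - n = 0 by omega, mem_degreeLT] at hw
        exact degree_eq_bot.mp (by
          have h1 := (Nat.WithBot.lt_zero_iff).mp (by exact_mod_cast hw)
          exact h1)
      rw [this, map_zero]; exact Submodule.zero_mem _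
    · have h1 := TT_mem_degreeLT r a (s := (∑ j, a j) + b - n) (w := w)
        (by rwa [SetLike.mem_coe, show (∑ j, a j) + b + 1 - n = (∑ j, a j) + b - n + 1 by omega] at hw)
      exact degreeLT_mono (by omega) h1

theorem finrank_infty (hr : Function.Injective r) (b : ℕ) (n : ℕ) :
    Module.finrank k ↥(VV r a b ⊓ degreeLT k ((∑ j, a j) + b + m - n)) =
      if n ≤ b then (∑ j, a j) + b - n else (∑ j, a j) + b + 1 - n := by
  rw [inf_infty r a hr]
  split_ifs with h
  · have h1 := finrank_map_TT_of_mem r a (degreeLT k ((∑ j, a j) + b + 1 - n))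
      ((EE_mem_degreeLT r a).mpr (by omega))
    rw [finrank_degreeLT] at h1
    omega
  · rw [finrank_map_TT_of_notMem, finrank_degreeLT]
    rw [EE_mem_degreeLT]
    omega

end dims

end K924.Wronsk
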