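import Mathlib
import Groth.Agent.W4c4effdivwronsk2.K924.Dim

/-!
# Hyperplanes in `V`
-/

set_option autoImplicit false
open Polynomial

namespace K924.Wronsk

variable {k : Type*} [Field k] {m : ℕ} (r : Fin m → k) (a : Fin m → ℕ)

/-- Intersecting a hyperplane with a subspace which is not contained in it. -/
theorem finrank_inf_add_one {W : Type*} [AddCommGroup W] [Module k W] (V V₁ S : Submodule k W)
    [Module.Finite k V] (h : V₁ ≤ V)
    (hfin : Module.finrank k V₁ + 1 = Module.finrank k V) {v : W} (hv : v ∈ V) (hvS : v ∈ S)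
    (hv₁ : v ∉ V₁) :
    Module.finrank k ↥(V₁ ⊓ S) + 1 = Module.finrank k ↥(V ⊓ S) := by
  have : Module.Finite k V₁ := Submodule.finiteDimensional_of_le h
  have : Module.Finite k ↥(V ⊓ S) := Submodule.finiteDimensional_of_le inf_le_left
  have h1 := Submodule.finrank_sup_add_finrank_inf_eq V₁ (V ⊓ S)
  have h2 : V₁ ⊓ (V ⊓ S) = V₁ ⊓ S := by
    rw [← inf_assoc, inf_eq_left.mpr h]
  rw [h2] at h1
  have h3 : Module.finrank k ↥(V₁ ⊔ (V ⊓ S)) ≤ Module.finrank k V :=
    Submodule.finrank_mono (sup_le h inf_le_left)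
  have : Module.Finite k ↥(V₁ ⊔ (V ⊓ S)) :=
    Submodule.finiteDimensional_of_le (sup_le h inf_le_left)
  have h4 : Module.finrank k V₁ < Module.finrank k ↥(V₁ ⊔ (V ⊓ S)) := by
    refine Submodule.finrank_lt_finrank_of_lt (lt_of_le_of_ne le_sup_left ?_)
    intro heq
    apply hv₁
    rw [heq]
    exact Submodule.mem_sup_right ⟨hv, hvS⟩
  omega

theorem finrank_inf_ge {W : Type*} [AddCommGroup W] [Module k W] (V V₁ S : Submodule k W)
    [Module.Finite k V] (h : V₁ ≤ V)
    (hfin : Module.finrank k V₁ + 1 = Module.finrank k V) :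
    Module.finrank k ↥(V ⊓ S) ≤ Module.finrank k ↥(V₁ ⊓ S) + 1 := by
  by_cases hS : V ⊓ S ≤ V₁
  · have h2 : V ⊓ S ≤ V₁ ⊓ S := le_inf hS inf_le_right
    have : Module.Finite k ↥(V₁ ⊓ S) := Submodule.finiteDimensional_of_le (inf_le_left.trans h)
    exact (Submodule.finrank_mono h2).trans (Nat.le_succ _)
  · obtain ⟨v, hv, hv1⟩ := SetLike.not_le_iff_exists.mp hS
    exact (finrank_inf_add_one V V₁ S h hfin hv.1 hv.2 hv1).ge

theorem degreeLT_succ_le {Q : Submodule k k[X]} {n : ℕ} (h : degreeLT k n ≤ Q) {g : k[X]}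
    (hg : g ∈ Q) (hgd : g ∈ degreeLT k (n + 1)) (hc : g.coeff n ≠ 0) : degreeLT k (n + 1) ≤ Q := by
  intro f hf
  have h1 : f - C (f.coeff n / g.coeff n) * g ∈ degreeLT k n := by
    rw [mem_degreeLT, degree_lt_iff_coeff_zero] at hf hgd ⊢
    intro t ht
    rcases Nat.eq_or_lt_of_le ht with rfl | ht'
    · rw [coeff_sub, coeff_C_mul, div_mul_cancel₀ _ hc, sub_self]
    · rw [coeff_sub, coeff_C_mul, hf t ht', hgd t ht', mul_zero, sub_zero]
  have h2 := Submodule.add_mem _ (h h1) (Submodule.smul_mem _ (f.coeff n / g.coeff n) hg)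
  rw [smul_eq_C_mul, sub_add_cancel] at h2
  exact h2

theorem X_sub_C_pow_mem (q : k) (n : ℕ) : (X - C q) ^ n ∈ degreeLT k (n + 1) := by
  rw [mem_degreeLT, degree_pow, degree_X_sub_C, nsmul_one]
  exact_mod_cast Nat.lt_succ_self n

theorem X_sub_C_pow_coeff (q : k) (n : ℕ) : ((X - C q) ^ n).coeff n ≠ 0 := by
  have h := ((monic_X_sub_C q).pow n).coeff_natDegree
  rw [natDegree_pow, natDegree_X_sub_C, mul_one] at h
  rw [h]; exact one_ne_zero

theorem degreeLT_le_of_pow_mem {Q : Submodule k k[X]} {N : ℕ} (hN : 1 ≤ N)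
    (h : degreeLT k (N - 1) ≤ Q) (q : k)
    (h1 : (X - C q) ^ (N - 1) ∈ Q) (h2 : (X - C q) ^ N ∈ Q) : degreeLT k (N + 1) ≤ Q := by
  obtain ⟨M, rfl⟩ : ∃ M, N = M + 1 := ⟨N - 1, by omega⟩
  rw [Nat.add_sub_cancel] at h h1
  exact degreeLT_succ_le (degreeLT_succ_le h h1 (X_sub_C_pow_mem q M) (X_sub_C_pow_coeff q M)) h2
    (X_sub_C_pow_mem q (M + 1)) (X_sub_C_pow_coeff q (M + 1))

variable [CharZero k]

theorem degreeLT_le_of_two_pow_mem {Q : Submodule k k[X]} {N : ℕ} (hN : 1 ≤ N)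
    (h : degreeLT k (N - 1) ≤ Q) {q q' : k} (hqq : q ≠ q')
    (h1 : (X - C q) ^ N ∈ Q) (h2 : (X - C q') ^ N ∈ Q) : degreeLT k (N + 1) ≤ Q := by
  obtain ⟨M, rfl⟩ : ∃ M, N = M + 1 := ⟨N - 1, by omega⟩
  rw [Nat.add_sub_cancel] at h
  refine degreeLT_succ_le (degreeLT_succ_le h (Q.sub_mem h1 h2) ?_ ?_) h2
    (X_sub_C_pow_mem q' (M + 1)) (X_sub_C_pow_coeff q' (M + 1))
  · rw [mem_degreeLT]
    have hd : ((X - C q) ^ (M + 1) - (X - C q') ^ (M + 1) : k[X]).degree <
        ((X - C q) ^ (M + 1) : k[X]).degree := by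
      refine degree_sub_lt_left ?_ (pow_ne_zero _ (X_sub_C_ne_zero q)) ?_
      · rw [degree_pow, degree_pow, degree_X_sub_C, degree_X_sub_C]
      · rw [((monic_X_sub_C q).pow _).leadingCoeff, ((monic_X_sub_C q').pow _).leadingCoeff]
    rwa [degree_pow, degree_X_sub_C, nsmul_one] at hd
  · have e : ∀ z : k, (X - C z : k[X]) = X + C (-z) := fun z => by rw [C_neg, sub_eq_add_neg]
    rw [coeff_sub, e q, e q', coeff_X_add_C_pow, coeff_X_add_C_pow, Nat.add_sub_cancel_left,
      pow_one, pow_one, Nat.choose_succ_self_right, ← sub_mul]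
    refine mul_ne_zero ?_ (Nat.cast_ne_zero.mpr (Nat.succ_ne_zero M))
    intro h0
    apply hqq
    linear_combination -h0

theorem TT_mem_VV (hr : Function.Injective r) (b : ℕ) {w : k[X]}
    (hw : w ∈ degreeLT k ((∑ j, a j) + b + 1)) : TT r a w ∈ VV r a b := by
  rw [VV_eq r a hr]; exact ⟨w, hw, rfl⟩

omit [CharZero k] in
/-- Evaluation of `T` of a multiple of `X - p` at `p`. -/
theorem TT_mul_X_sub_C_eval (p : k) (g : k[X]) :
    (TT r a (g * (X - C p))).eval p = (RR r).eval p * g.eval p := by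
  rw [TT_apply, derivative_mul, derivative_X_sub_C]
  simp

section hyper

variable {r a}
variable (hr : Function.Injective r) {b N : ℕ} (hN : N = (∑ j, a j) + b)
  {V₁ : Submodule k k[X]} (hV₁ : V₁ ≤ VV r a b) (hfin : Module.finrank k ↥V₁ + 1 = N)
include hr hN hV₁ hfin

theorem not_degreeLT_le : ¬ degreeLT k (N + 1) ≤ V₁.comap (TT r a) := by
  intro h
  have h1 : VV r a b ≤ V₁ := by
    rw [VV_eq r a hr, Submodule.map_le_iff_le_comap, ← hN]
    exact h
  have h2 := finrank_VV r a hr b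
  rw [le_antisymm hV₁ h1] at hfin
  omega

omit hfin in
theorem inf_unmarked_eq_bot {q : k} (hq : ∀ j, q ≠ r j) :
    V₁ ⊓ (Ideal.span {(X - C q) ^ N}).restrictScalars k = ⊥ := by
  have h := finrank_unmarked r a hr b hq N
  rw [← hN, Nat.sub_self] at h
  have := finite_VV r a b
  have h2 := Submodule.finrank_eq_zero.mp h
  rw [eq_bot_iff, ← h2]
  exact inf_le_inf_right _ hV₁

/-- One of the two last vanishing orders at an unmarked point is dropped. -/
theorem finrank_unmarked_le_one {q : k} (hq : ∀ j, q ≠ r j)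
    (hex : 2 ≤ N → ∃ w ∈ degreeLT k (N + 1), (X - C q) ^ (N - 1) ∣ w ∧ TT r a w ∉ V₁) :
    Module.finrank k ↥(V₁ ⊓ (Ideal.span {(X - C q) ^ (N - 2)}).restrictScalars k) ≤ 1 := by
  have := finite_VV r a b
  have : Module.Finite k V₁ := Submodule.finiteDimensional_of_le hV₁
  rcases Nat.lt_or_ge N 2 with h2 | h2
  · have := Submodule.finrank_mono
      (inf_le_left : V₁ ⊓ (Ideal.span {(X - C q) ^ (N - 2)}).restrictScalars k ≤ V₁)
    omega
  · obtain ⟨w, hw, hd, hw1⟩ := hex h2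
    have h3 := finrank_inf_add_one (VV r a b) V₁
      ((Ideal.span {(X - C q) ^ (N - 2)}).restrictScalars k) hV₁ (by
        rw [finrank_VV r a hr]; omega) (v := TT r a w)
      (TT_mem_VV r a hr b (by rwa [← hN])) (by
        rw [mem_span_restrict]
        refine dvd_TT_unmarked r a ?_
        rwa [show N - 2 + 1 = N - 1 by omega]) hw1
    rw [finrank_unmarked r a hr b hq] at h3
    omega

theorem TT_pow_mem_of_ne_bot {q : k} (hq : ∀ j, q ≠ r j)
    (hne : V₁ ⊓ (Ideal.span {(X - C q) ^ (N - 1)}).restrictScalars k ≠ ⊥) :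
    TT r a ((X - C q) ^ N) ∈ V₁ := by
  have := finite_VV r a b
  have h1 := finrank_unmarked r a hr b hq (N - 1)
  have h2 : V₁ ⊓ (Ideal.span {(X - C q) ^ (N - 1)}).restrictScalars k ≤
      VV r a b ⊓ (Ideal.span {(X - C q) ^ (N - 1)}).restrictScalars k := inf_le_inf_right _ hV₁
  have : Module.Finite k ↥(VV r a b ⊓ (Ideal.span {(X - C q) ^ (N - 1)}).restrictScalars k) :=
    Submodule.finiteDimensional_of_le inf_le_left
  have h3 : V₁ ⊓ (Ideal.span {(X - C q) ^ (N - 1)}).restrictScalars k =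
      VV r a b ⊓ (Ideal.span {(X - C q) ^ (N - 1)}).restrictScalars k := by
    refine Submodule.eq_of_le_of_finrank_le h2 ?_
    rw [h1]
    have : Module.Finite k ↥(V₁ ⊓ (Ideal.span {(X - C q) ^ (N - 1)}).restrictScalars k) :=
      Submodule.finiteDimensional_of_le h2
    have h4 : Module.finrank k
        ↥(V₁ ⊓ (Ideal.span {(X - C q) ^ (N - 1)}).restrictScalars k) ≠ 0 :=
      fun h0 => hne (Submodule.finrank_eq_zero.mp h0)
    omega
  have h5 : TT r a ((X - C q) ^ N) ∈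
      VV r a b ⊓ (Ideal.span {(X - C q) ^ (N - 1)}).restrictScalars k := by
    refine ⟨TT_mem_VV r a hr b (by rw [← hN]; exact X_sub_C_pow_mem q N), ?_⟩
    rw [SetLike.mem_coe, mem_span_restrict]
    refine dvd_TT_unmarked r a ?_
    rw [show N - 1 + 1 = N by omega]
  rw [← h3] at h5
  exact h5.1

/-- At a marked point, when one of the two last vanishing orders is dropped. -/
theorem finrank_marked_hyper (i : Fin m)
    (hex : ∃ w ∈ degreeLT k (N + 1), (X - C (r i)) ^ (N - 1) ∣ w ∧ TT r a w ∉ V₁)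
    (n : ℕ) (hn : n ≤ N - 1) :
    Module.finrank k ↥(V₁ ⊓ (Ideal.span {(X - C (r i)) ^ n}).restrictScalars k) + 1 =
      if n ≤ a i then N - n else N + 1 - n := by
  have := finite_VV r a b
  obtain ⟨w, hw, hd, hw1⟩ := hex
  rw [finrank_inf_add_one (VV r a b) V₁
      ((Ideal.span {(X - C (r i)) ^ n}).restrictScalars k) hV₁ (by
        rw [finrank_VV r a hr]; omega) (v := TT r a w)
      (TT_mem_VV r a hr b (by rwa [← hN])) (by
        rw [mem_span_restrict]
        exact dvd_TT_marked r a i ((pow_dvd_pow _ hn).trans hd)) hw1, finrank_marked r a hr, ← hN]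

omit hfin in
theorem finrank_marked_le (i : Fin m) (n : ℕ) :
    Module.finrank k ↥(V₁ ⊓ (Ideal.span {(X - C (r i)) ^ n}).restrictScalars k) ≤
      if n ≤ a i then N - n else N + 1 - n := by
  have := finite_VV r a b
  rw [hN, ← finrank_marked r a hr b i n]
  have : Module.Finite k ↥(VV r a b ⊓ (Ideal.span {(X - C (r i)) ^ n}).restrictScalars k) :=
    Submodule.finiteDimensional_of_le inf_le_left
  exact Submodule.finrank_mono (inf_le_inf_right _ hV₁)

theorem exists_of_le (hN1 : 1 ≤ N) (hU : VV r a (b - 2) ≤ V₁) (q : k) :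
    ∃ w ∈ degreeLT k (N + 1), (X - C q) ^ (N - 1) ∣ w ∧ TT r a w ∉ V₁ := by
  have h1 : degreeLT k (N - 1) ≤ V₁.comap (TT r a) := by
    rw [← Submodule.map_le_iff_le_comap]
    refine le_trans ?_ hU
    rw [VV_eq r a hr]
    exact Submodule.map_mono (degreeLT_mono (by omega))
  by_contra hcon
  push Not at hcon
  refine not_degreeLT_le hr hN hV₁ hfin (degreeLT_le_of_pow_mem hN1 h1 q ?_ ?_)
  · exact hcon _ (degreeLT_mono (by omega) (X_sub_C_pow_mem q (N - 1))) dvd_rfl
  · exact hcon _ (X_sub_C_pow_mem q N) (pow_dvd_pow _ (by omega))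

theorem eq_of_two (hN1 : 1 ≤ N) (hU : VV r a (b - 2) ≤ V₁) {q q' : k}
    (h1 : TT r a ((X - C q) ^ N) ∈ V₁) (h2 : TT r a ((X - C q') ^ N) ∈ V₁) : q = q' := by
  by_contra hne
  have h0 : degreeLT k (N - 1) ≤ V₁.comap (TT r a) := by
    rw [← Submodule.map_le_iff_le_comap]
    refine le_trans ?_ hU
    rw [VV_eq r a hr]
    exact Submodule.map_mono (degreeLT_mono (by omega))
  exact not_degreeLT_le hr hN hV₁ hfin (degreeLT_le_of_two_pow_mem hN1 h0 hne h1 h2)

end hyper

/-! ### arithmetic -/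

theorem sum_ge (M e : ℕ) : ∑ n ∈ Finset.range M, (if e ≤ n then 1 else 0) = M - e := by
  induction M with
  | zero => simp
  | succ M ih =>
    rw [Finset.sum_range_succ, ih]
    split_ifs <;> omega

theorem sum_rev (M : ℕ) : ∑ n ∈ Finset.range M, (M - 1 - n) = M.choose 2 := by
  rw [Finset.sum_range_reflect (fun n => n) M, Finset.sum_range_id, Nat.choose_two_right]

/-- The sum of the dimensions, when one of the last two vanishing orders is dropped. -/
theorem arith1 (g : ℕ → ℕ) (N e d : ℕ) (he : e + 1 ≤ N) (hd : N ≤ d)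
    (h1 : ∀ n, n < N - 1 → g n + 1 = if n + 1 ≤ e then N - (n + 1) else N + 1 - (n + 1))
    (h2 : ∀ n, N ≤ n → g n = 0) :
    (∑ n ∈ Finset.range d, g n) + 1 = (N - 1).choose 2 + (N - e) + g (N - 1) := by
  obtain ⟨M, rfl⟩ : ∃ M, N = M + 1 := ⟨N - 1, by omega⟩
  rw [Nat.add_sub_cancel] at *
  have h3 : ∑ n ∈ Finset.range d, g n = ∑ n ∈ Finset.range (M + 1), g n := by
    refine (Finset.sum_subset (Finset.range_mono hd) fun n _ hn => h2 n ?_).symm
    rw [Finset.mem_range] at hn; omega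
  rw [h3, Finset.sum_range_succ]
  have h4 : ∑ n ∈ Finset.range M, g n =
      ∑ n ∈ Finset.range M, ((M - 1 - n) + (if e ≤ n then 1 else 0)) := by
    refine Finset.sum_congr rfl fun n hn => ?_
    rw [Finset.mem_range] at hn
    have := h1 n hn
    split_ifs at this ⊢ <;> omega
  rw [h4, Finset.sum_add_distrib, sum_rev, sum_ge]
  omega

/-- The sum of all the dimensions at a point. -/
theorem arith2 (f : ℕ → ℕ) (N e d : ℕ) (he : e ≤ N) (hd : N ≤ d ∨ (d + 1 = N ∧ e = N))
    (h1 : ∀ n, f n = if n + 1 ≤ e then N - (n + 1) else N + 1 - (n + 1)) :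
    (∑ n ∈ Finset.range d, f n) + e = (N + 1).choose 2 := by
  have h4 : ∀ n, n < N → f n + 1 = ((N - 1 - n) + (if e ≤ n then 1 else 0)) + 1 := by
    intro n hn
    rw [h1 n]
    split_ifs <;> omega
  have h5 : ∑ n ∈ Finset.range N, f n + e = (N + 1).choose 2 := by
    have h6 : ∑ n ∈ Finset.range N, f n =
        ∑ n ∈ Finset.range N, ((N - 1 - n) + (if e ≤ n then 1 else 0)) :=
      Finset.sum_congr rfl fun n hn => Nat.succ_injective (h4 n (Finset.mem_range.mp hn))
    rw [h6, Finset.sum_add_distrib, sum_rev, sum_ge, Nat.choose_succ_succ' N 1, Nat.choose_one_right]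
    show N.choose 2 + (N - e) + e = N + N.choose 2
    omega
  rcases hd with hd | ⟨hd, rfl⟩
  · rw [← h5]
    congr 1
    refine (Finset.sum_subset (Finset.range_mono hd) fun n _ hn => ?_).symm
    rw [Finset.mem_range] at hn
    rw [h1 n, if_neg (by omega)]
    omega
  · rw [← h5, ← hd, Finset.sum_range_succ, h1 d, if_pos (by omega)]
    omega

end K924.Wronsk
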